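import Cfsg.Agent.InvChar.Coset.HeCentIso
import Cfsg.Agent.Lib.PcMult.Pts.Base
import Cfsg.Agent.Lib.PcMult.Pts.Check

/-!
The action of the Held group on its cosets and the points separating its elements.
-/

set_option autoImplicit false

namespace Cfsg.Agent.Lib.PcMult.He

open Cfsg.Agent.CosetCert Cfsg.Agent.InvChar.Coset Cfsg.Agent.Lib.PcMult

/-- The action on the cosets. -/
noncomputable abbrev φ : Cfsg.Spor.He →* Equiv.Perm (Fin He.table.n) := He.data.hom He.checked

theorem K_eq : He.table.C.K = 7 := by decide +kernel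

theorem reals_gen (i : ℕ) (hi : i < 7) : Pts.Reals φ (nthNat He.table.P i) :=
  ⟨He.data.gen i, fun c => by
    rw [show φ (He.data.gen i) = tau He.checked i from He.data.hom_gen He.checked i,
      tau_apply He.checked (K_eq ▸ hi)]
    rfl⟩

theorem real0 : Pts.Reals φ He.perm0 := reals_gen 0 (by norm_num)

theorem real1 : Pts.Reals φ He.perm1 := reals_gen 1 (by norm_num)

theorem real2 : Pts.Reals φ He.perm2 := reals_gen 2 (by norm_num)

theorem real3 : Pts.Reals φ He.perm3 := reals_gen 3 (by norm_num)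

theorem real4 : Pts.Reals φ He.perm4 := reals_gen 4 (by norm_num)

theorem real5 : Pts.Reals φ He.perm5 := reals_gen 5 (by norm_num)

theorem real6 : Pts.Reals φ He.perm6 := reals_gen 6 (by norm_num)

theorem realises : Realises φ.range He.table.P := by
  intro y hy
  obtain ⟨x, hx⟩ := reals_gen y hy
  exact ⟨φ x, ⟨x, rfl⟩, hx⟩

theorem sep {x y : Cfsg.Spor.He} (h : ∀ c : Fin He.table.n, (c : ℕ) ∈ [0, 1, 2, 3, 5, 9, 18] → φ x c = φ y c) :
    x = y := by
  haveI := He.simple_and_card.1
  refine Pts.sep φ HeCent.phi_injective realises He.levels_ok ?_ ?_ ?_ h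
  · rw [He.simple_and_card.2, He.levels_prod]
  · rw [He.levels_prod]; norm_num
  · decide +kernel

end Cfsg.Agent.Lib.PcMult.He
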