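import Cfsg.Agent.Lib.PcMult.He.Base
import Cfsg.Agent.Lib.PcMult.He.Elems

/-!
Each packed permutation is a product of earlier ones, hence is that of an element of the group.
-/

set_option autoImplicit false
set_option maxRecDepth 100000

namespace Cfsg.Agent.Lib.PcMult.He

open Cfsg.Agent.InvChar.Coset Cfsg.Agent.Lib.PcMult

theorem real7 : Pts.Reals φ He.lvP0_0 :=
  Pts.Reals.step φ (Pts.RealsL.cons φ real1 (Pts.RealsL.cons φ real2 (Pts.RealsL.cons φ real3 (Pts.RealsL.cons φ real4 (Pts.RealsL.cons φ real5 (Pts.RealsL.cons φ real3 (Pts.RealsL.cons φ real2 (Pts.RealsL.cons φ real1 (Pts.RealsL.cons φ real3 (Pts.RealsL.cons φ real2 (Pts.RealsL.cons φ real6 (Pts.RealsL.cons φ real4 (Pts.RealsL.cons φ real1 (Pts.RealsL.cons φ real2 (Pts.RealsL.cons φ real3 (Pts.RealsL.cons φ real5 (Pts.RealsL.cons φ real6 (Pts.RealsL.cons φ real3 (Pts.RealsL.cons φ real1 (Pts.RealsL.cons φ real2 (Pts.RealsL.cons φ real3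 (Pts.RealsL.cons φ real2 (Pts.RealsL.cons φ real1 (Pts.RealsL.nil φ)))))))))))))))))))))))) (by decide +kernel)

theorem real8 : Pts.Reals φ He.lvP0_1 :=
  Pts.Reals.step φ (Pts.RealsL.cons φ real1 (Pts.RealsL.cons φ real2 (Pts.RealsL.cons φ real3 (Pts.RealsL.cons φ real2 (Pts.RealsL.cons φ real1 (Pts.RealsL.cons φ real3 (Pts.RealsL.cons φ real6 (Pts.RealsL.cons φ real5 (Pts.RealsL.cons φ real3 (Pts.RealsL.cons φ real2 (Pts.RealsL.cons φ real1 (Pts.RealsL.cons φ real4 (Pts.RealsL.cons φ real6 (Pts.RealsL.cons φ real2 (Pts.RealsL.cons φ real3 (Pts.RealsL.cons φ real1 (Pts.RealsL.cons φ real2 (Pts.RealsL.cons φ real3 (Pts.RealsL.cons φ real5 (Pts.RealsL.cons φ real4 (Pts.RealsL.cons φ real3 (Pts.RealsL.cons φ real2 (Pts.RealsL.cons φ real1 (Pts.RealsL.nil φ)))))))))))))))))))))))) (by decide +kernel)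

theorem real9 : Pts.Reals φ He.lvP0_2 :=
  Pts.Reals.step φ (Pts.RealsL.cons φ real1 (Pts.RealsL.cons φ real2 (Pts.RealsL.cons φ real3 (Pts.RealsL.cons φ real2 (Pts.RealsL.cons φ real1 (Pts.RealsL.cons φ real5 (Pts.RealsL.cons φ real3 (Pts.RealsL.cons φ real2 (Pts.RealsL.cons φ real1 (Pts.RealsL.cons φ real3 (Pts.RealsL.cons φ real4 (Pts.RealsL.cons φ real5 (Pts.RealsL.cons φ real0 (Pts.RealsL.cons φ real6 (Pts.RealsL.cons φ real2 (Pts.RealsL.cons φ real3 (Pts.RealsL.cons φ real4 (Pts.RealsL.cons φ real3 (Pts.RealsL.cons φ real1 (Pts.RealsL.cons φ real2 (Pts.RealsL.cons φ real3 (Pts.RealsL.cons φ real1 (Pts.RealsL.cons φ real2 (Pts.RealsL.cons φ real3 (Pts.RealsL.cons φ real6 (Pts.RealsL.nil φ)))))))))))))))))))))))))) (by decide +kernel)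

theorem real10 : Pts.Reals φ He.lvP0_3 :=
  Pts.Reals.step φ (Pts.RealsL.cons φ real6 (Pts.RealsL.cons φ real3 (Pts.RealsL.cons φ real2 (Pts.RealsL.cons φ real1 (Pts.RealsL.cons φ real3 (Pts.RealsL.cons φ real2 (Pts.RealsL.cons φ real1 (Pts.RealsL.cons φ real3 (Pts.RealsL.cons φ real4 (Pts.RealsL.cons φ real3 (Pts.RealsL.cons φ real2 (Pts.RealsL.cons φ real6 (Pts.RealsL.cons φ real0 (Pts.RealsL.cons φ real5 (Pts.RealsL.cons φ real4 (Pts.RealsL.cons φ real3 (Pts.RealsL.cons φ real1 (Pts.RealsL.cons φ real2 (Pts.RealsL.cons φ real3 (Pts.RealsL.cons φ real5 (Pts.RealsL.cons φ real1 (Pts.RealsL.cons φ real2 (Pts.RealsL.cons φ real3 (Pts.RealsL.cons φ real2 (Pts.RealsL.cons φ real1 (Pts.RealsL.nil φ)))))))))))))))))))))))))) (by decide +kernel)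

theorem real11 : Pts.Reals φ He.lvP1_0 :=
  Pts.Reals.step φ (Pts.RealsL.cons φ real10 (Pts.RealsL.cons φ real7 (Pts.RealsL.cons φ real9 (Pts.RealsL.cons φ real7 (Pts.RealsL.cons φ real7 (Pts.RealsL.cons φ real7 (Pts.RealsL.cons φ real9 (Pts.RealsL.cons φ real7 (Pts.RealsL.cons φ real10 (Pts.RealsL.cons φ real7 (Pts.RealsL.cons φ real7 (Pts.RealsL.cons φ real9 (Pts.RealsL.cons φ real7 (Pts.RealsL.cons φ real9 (Pts.RealsL.nil φ))))))))))))))) (by decide +kernel)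

theorem real12 : Pts.Reals φ He.lvP1_1 :=
  Pts.Reals.step φ (Pts.RealsL.cons φ real10 (Pts.RealsL.cons φ real8 (Pts.RealsL.cons φ real10 (Pts.RealsL.cons φ real8 (Pts.RealsL.cons φ real8 (Pts.RealsL.cons φ real9 (Pts.RealsL.cons φ real8 (Pts.RealsL.cons φ real10 (Pts.RealsL.cons φ real8 (Pts.RealsL.cons φ real8 (Pts.RealsL.cons φ real8 (Pts.RealsL.cons φ real10 (Pts.RealsL.cons φ real8 (Pts.RealsL.cons φ real9 (Pts.RealsL.nil φ))))))))))))))) (by decide +kernel)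

theorem real13 : Pts.Reals φ He.lvP1_2 :=
  Pts.Reals.step φ (Pts.RealsL.cons φ real8 (Pts.RealsL.cons φ real9 (Pts.RealsL.cons φ real8 (Pts.RealsL.cons φ real8 (Pts.RealsL.cons φ real8 (Pts.RealsL.cons φ real9 (Pts.RealsL.cons φ real7 (Pts.RealsL.cons φ real10 (Pts.RealsL.cons φ real7 (Pts.RealsL.cons φ real7 (Pts.RealsL.cons φ real7 (Pts.RealsL.cons φ real10 (Pts.RealsL.cons φ real7 (Pts.RealsL.cons φ real10 (Pts.RealsL.cons φ real8 (Pts.RealsL.nil φ)))))))))))))))) (by decide +kernel)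

theorem real14 : Pts.Reals φ He.lvP1_3 :=
  Pts.Reals.step φ (Pts.RealsL.cons φ real7 (Pts.RealsL.cons φ real9 (Pts.RealsL.cons φ real8 (Pts.RealsL.cons φ real9 (Pts.RealsL.cons φ real8 (Pts.RealsL.cons φ real8 (Pts.RealsL.cons φ real8 (Pts.RealsL.cons φ real9 (Pts.RealsL.cons φ real8 (Pts.RealsL.cons φ real10 (Pts.RealsL.cons φ real7 (Pts.RealsL.cons φ real7 (Pts.RealsL.cons φ real7 (Pts.RealsL.cons φ real10 (Pts.RealsL.cons φ real7 (Pts.RealsL.nil φ)))))))))))))))) (by decide +kernel)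

theorem real15 : Pts.Reals φ He.lvP1_4 :=
  Pts.Reals.step φ (Pts.RealsL.cons φ real8 (Pts.RealsL.cons φ real10 (Pts.RealsL.cons φ real7 (Pts.RealsL.cons φ real7 (Pts.RealsL.cons φ real10 (Pts.RealsL.cons φ real8 (Pts.RealsL.cons φ real8 (Pts.RealsL.cons φ real9 (Pts.RealsL.cons φ real7 (Pts.RealsL.cons φ real9 (Pts.RealsL.cons φ real7 (Pts.RealsL.cons φ real10 (Pts.RealsL.cons φ real7 (Pts.RealsL.cons φ real10 (Pts.RealsL.cons φ real7 (Pts.RealsL.cons φ real10 (Pts.RealsL.nil φ))))))))))))))))) (by decide +kernel)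

theorem real16 : Pts.Reals φ He.lvP1_5 :=
  Pts.Reals.step φ (Pts.RealsL.cons φ real9 (Pts.RealsL.cons φ real8 (Pts.RealsL.cons φ real9 (Pts.RealsL.cons φ real8 (Pts.RealsL.cons φ real9 (Pts.RealsL.cons φ real8 (Pts.RealsL.cons φ real10 (Pts.RealsL.cons φ real8 (Pts.RealsL.cons φ real10 (Pts.RealsL.cons φ real7 (Pts.RealsL.cons φ real7 (Pts.RealsL.cons φ real9 (Pts.RealsL.cons φ real8 (Pts.RealsL.cons φ real8 (Pts.RealsL.cons φ real9 (Pts.RealsL.cons φ real7 (Pts.RealsL.nil φ))))))))))))))))) (by decide +kernel)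

theorem real17 : Pts.Reals φ He.lvP2_0 :=
  Pts.Reals.step φ (Pts.RealsL.cons φ real11 (Pts.RealsL.cons φ real14 (Pts.RealsL.cons φ real11 (Pts.RealsL.cons φ real16 (Pts.RealsL.cons φ real11 (Pts.RealsL.cons φ real14 (Pts.RealsL.nil φ))))))) (by decide +kernel)

theorem real18 : Pts.Reals φ He.lvP2_1 :=
  Pts.Reals.step φ (Pts.RealsL.cons φ real13 (Pts.RealsL.cons φ real12 (Pts.RealsL.cons φ real15 (Pts.RealsL.cons φ real12 (Pts.RealsL.cons φ real13 (Pts.RealsL.cons φ real12 (Pts.RealsL.nil φ))))))) (by decide +kernel)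

theorem real19 : Pts.Reals φ He.lvP2_2 :=
  Pts.Reals.step φ (Pts.RealsL.cons φ real16 (Pts.RealsL.cons φ real14 (Pts.RealsL.cons φ real15 (Pts.RealsL.cons φ real14 (Pts.RealsL.cons φ real15 (Pts.RealsL.nil φ)))))) (by decide +kernel)

theorem real20 : Pts.Reals φ He.lvP2_3 :=
  Pts.Reals.step φ (Pts.RealsL.cons φ real16 (Pts.RealsL.cons φ real13 (Pts.RealsL.cons φ real16 (Pts.RealsL.cons φ real13 (Pts.RealsL.cons φ real15 (Pts.RealsL.nil φ)))))) (by decide +kernel)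

theorem real21 : Pts.Reals φ He.lvP2_4 :=
  Pts.Reals.step φ (Pts.RealsL.cons φ real11 (Pts.RealsL.cons φ real11 (Pts.RealsL.nil φ))) (by decide +kernel)

theorem real22 : Pts.Reals φ He.lvP2_5 :=
  Pts.Reals.step φ (Pts.RealsL.cons φ real16 (Pts.RealsL.cons φ real14 (Pts.RealsL.cons φ real11 (Pts.RealsL.cons φ real11 (Pts.RealsL.cons φ real15 (Pts.RealsL.cons φ real12 (Pts.RealsL.cons φ real13 (Pts.RealsL.nil φ)))))))) (by decide +kernel)

theorem real23 : Pts.Reals φ He.lvP2_6 :=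
  Pts.Reals.step φ (Pts.RealsL.cons φ real11 (Pts.RealsL.cons φ real14 (Pts.RealsL.cons φ real14 (Pts.RealsL.cons φ real11 (Pts.RealsL.cons φ real15 (Pts.RealsL.cons φ real13 (Pts.RealsL.cons φ real13 (Pts.RealsL.nil φ)))))))) (by decide +kernel)

theorem real24 : Pts.Reals φ He.lvP2_7 :=
  Pts.Reals.step φ (Pts.RealsL.cons φ real14 (Pts.RealsL.cons φ real11 (Pts.RealsL.cons φ real13 (Pts.RealsL.cons φ real15 (Pts.RealsL.cons φ real13 (Pts.RealsL.cons φ real16 (Pts.RealsL.cons φ real14 (Pts.RealsL.nil φ)))))))) (by decide +kernel)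

theorem real25 : Pts.Reals φ He.lvP2_8 :=
  Pts.Reals.step φ (Pts.RealsL.cons φ real14 (Pts.RealsL.cons φ real16 (Pts.RealsL.cons φ real13 (Pts.RealsL.cons φ real16 (Pts.RealsL.cons φ real14 (Pts.RealsL.cons φ real14 (Pts.RealsL.nil φ))))))) (by decide +kernel)

theorem real26 : Pts.Reals φ He.lvP2_9 :=
  Pts.Reals.step φ (Pts.RealsL.cons φ real13 (Pts.RealsL.cons φ real15 (Pts.RealsL.cons φ real14 (Pts.RealsL.cons φ real14 (Pts.RealsL.cons φ real14 (Pts.RealsL.cons φ real16 (Pts.RealsL.cons φ real14 (Pts.RealsL.nil φ)))))))) (by decide +kernel)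

theorem real27 : Pts.Reals φ He.lvP3_0 :=
  Pts.Reals.step φ (Pts.RealsL.cons φ real22 (Pts.RealsL.cons φ real18 (Pts.RealsL.nil φ))) (by decide +kernel)

theorem real28 : Pts.Reals φ He.lvP3_1 :=
  Pts.Reals.step φ (Pts.RealsL.cons φ real17 (Pts.RealsL.cons φ real25 (Pts.RealsL.nil φ))) (by decide +kernel)

theorem real29 : Pts.Reals φ He.lvP3_2 :=
  Pts.Reals.step φ (Pts.RealsL.cons φ real19 (Pts.RealsL.cons φ real18 (Pts.RealsL.nil φ))) (by decide +kernel)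

theorem real30 : Pts.Reals φ He.lvP3_3 :=
  Pts.Reals.step φ (Pts.RealsL.cons φ real17 (Pts.RealsL.cons φ real17 (Pts.RealsL.nil φ))) (by decide +kernel)

theorem real31 : Pts.Reals φ He.lvP3_4 :=
  Pts.Reals.step φ (Pts.RealsL.cons φ real17 (Pts.RealsL.cons φ real26 (Pts.RealsL.cons φ real18 (Pts.RealsL.nil φ)))) (by decide +kernel)

theorem real32 : Pts.Reals φ He.lvP4_0 :=
  Pts.Reals.step φ (Pts.RealsL.cons φ real27 (Pts.RealsL.cons φ real31 (Pts.RealsL.cons φ real27 (Pts.RealsL.nil φ)))) (by decide +kernel)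

theorem real33 : Pts.Reals φ He.lvP4_1 :=
  Pts.Reals.step φ (Pts.RealsL.cons φ real27 (Pts.RealsL.cons φ real30 (Pts.RealsL.cons φ real28 (Pts.RealsL.cons φ real27 (Pts.RealsL.nil φ))))) (by decide +kernel)

theorem real34 : Pts.Reals φ He.lvP5_0 :=
  Pts.Reals.step φ (Pts.RealsL.cons φ real32 (Pts.RealsL.cons φ real33 (Pts.RealsL.cons φ real32 (Pts.RealsL.nil φ)))) (by decide +kernel)

theorem real35 : Pts.Reals φ q0 :=
  Pts.Reals.step φ (Pts.RealsL.cons φ real34 (Pts.RealsL.cons φ real27 (Pts.RealsL.cons φ real17 (Pts.RealsL.cons φ real13 (Pts.RealsL.cons φ real12 (Pts.RealsL.cons φ real14 (Pts.RealsL.cons φ real14 (Pts.RealsL.cons φ real8 (Pts.RealsL.cons φ real9 (Pts.RealsL.cons φ real8 (Pts.RealsL.cons φ real8 (Pts.RealsL.cons φ real8 (Pts.RealsL.cons φ real9 (Pts.RealsL.cons φ real7 (Pts.RealsL.cons φ real1 (Pts.RealsL.cons φ real2 (Pts.RealsL.cons φ real3 (Pts.RealsL.cons φ real2 (Pts.RealsL.cons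 φ real1 (Pts.RealsL.cons φ real3 (Pts.RealsL.cons φ real2 (Pts.RealsL.cons φ real5 (Pts.RealsL.cons φ real3 (Pts.RealsL.cons φ real2 (Pts.RealsL.cons φ real1 (Pts.RealsL.cons φ real3 (Pts.RealsL.cons φ real2 (Pts.RealsL.cons φ real5 (Pts.RealsL.nil φ))))))))))))))))))))))))))))) (by decide +kernel)

theorem real36 : Pts.Reals φ q1 :=
  Pts.Reals.step φ (Pts.RealsL.cons φ real34 (Pts.RealsL.cons φ real27 (Pts.RealsL.cons φ real14 (Pts.RealsL.cons φ real16 (Pts.RealsL.cons φ real9 (Pts.RealsL.cons φ real7 (Pts.RealsL.cons φ real7 (Pts.RealsL.cons φ real9 (Pts.RealsL.cons φ real7 (Pts.RealsL.cons φ real10 (Pts.RealsL.cons φ real8 (Pts.RealsL.cons φ real10 (Pts.RealsL.cons φ real6 (Pts.RealsL.cons φ real3 (Pts.RealsL.cons φ real2 (Pts.RealsL.cons φ real1 (Pts.RealsL.cons φ real3 (Pts.RealsL.cons φ real2 (Pts.RealsL.cons φ real4 (Pts.RealsL.cons φ real3 (Pts.RealsL.cons φ real2 (Pts.RealsL.nil φ))))))))))))))))))))))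 (by decide +kernel)

theorem real37 : Pts.Reals φ q2 :=
  Pts.Reals.step φ (Pts.RealsL.cons φ real34 (Pts.RealsL.cons φ real27 (Pts.RealsL.cons φ real13 (Pts.RealsL.cons φ real13 (Pts.RealsL.cons φ real13 (Pts.RealsL.cons φ real1 (Pts.RealsL.cons φ real2 (Pts.RealsL.cons φ real3 (Pts.RealsL.cons φ real2 (Pts.RealsL.cons φ real1 (Pts.RealsL.cons φ real3 (Pts.RealsL.cons φ real5 (Pts.RealsL.nil φ))))))))))))) (by decide +kernel)

theorem real38 : Pts.Reals φ q3 :=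
  Pts.Reals.step φ (Pts.RealsL.cons φ real34 (Pts.RealsL.cons φ real32 (Pts.RealsL.cons φ real11 (Pts.RealsL.cons φ real14 (Pts.RealsL.cons φ real14 (Pts.RealsL.cons φ real7 (Pts.RealsL.cons φ real7 (Pts.RealsL.cons φ real9 (Pts.RealsL.cons φ real7 (Pts.RealsL.cons φ real10 (Pts.RealsL.cons φ real7 (Pts.RealsL.cons φ real7 (Pts.RealsL.cons φ real1 (Pts.RealsL.cons φ real2 (Pts.RealsL.cons φ real3 (Pts.RealsL.cons φ real2 (Pts.RealsL.cons φ real1 (Pts.RealsL.cons φ real3 (Pts.RealsL.cons φ real2 (Pts.RealsL.cons φ real6 (Pts.RealsL.cons φ real3 (Pts.RealsL.cons φ real2 (Pts.RealsL.cons φ real3 (Pts.RealsL.cons φ real4 (Pts.RealsL.cons φ real3 (Pts.RealsL.nil φ)))))))))))))))))))))))))) (by decide +kernel)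

theorem real39 : Pts.Reals φ q4 :=
  Pts.Reals.step φ (Pts.RealsL.cons φ real27 (Pts.RealsL.cons φ real28 (Pts.RealsL.cons φ real16 (Pts.RealsL.cons φ real9 (Pts.RealsL.cons φ real8 (Pts.RealsL.cons φ real8 (Pts.RealsL.cons φ real8 (Pts.RealsL.cons φ real1 (Pts.RealsL.cons φ real2 (Pts.RealsL.cons φ real3 (Pts.RealsL.cons φ real2 (Pts.RealsL.cons φ real1 (Pts.RealsL.cons φ real0 (Pts.RealsL.cons φ real3 (Pts.RealsL.cons φ real2 (Pts.RealsL.cons φ real6 (Pts.RealsL.cons φ real3 (Pts.RealsL.cons φ real5 (Pts.RealsL.nil φ))))))))))))))))))) (by decide +kernel)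

theorem real40 : Pts.Reals φ q5 :=
  Pts.Reals.step φ (Pts.RealsL.cons φ real14 (Pts.RealsL.cons φ real14 (Pts.RealsL.cons φ real11 (Pts.RealsL.cons φ real7 (Pts.RealsL.cons φ real9 (Pts.RealsL.cons φ real8 (Pts.RealsL.cons φ real10 (Pts.RealsL.cons φ real7 (Pts.RealsL.cons φ real7 (Pts.RealsL.cons φ real1 (Pts.RealsL.cons φ real2 (Pts.RealsL.cons φ real3 (Pts.RealsL.cons φ real2 (Pts.RealsL.cons φ real1 (Pts.RealsL.cons φ real0 (Pts.RealsL.cons φ real3 (Pts.RealsL.cons φ real2 (Pts.RealsL.cons φ real5 (Pts.RealsL.cons φ real3 (Pts.RealsL.cons φ real2 (Pts.RealsL.cons φ real3 (Pts.RealsL.cons φ real4 (Pts.RealsL.nil φ))))))))))))))))))))))) (by decide +kernel)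

theorem real41 : Pts.Reals φ q6 :=
  Pts.Reals.step φ (Pts.RealsL.cons φ real28 (Pts.RealsL.cons φ real16 (Pts.RealsL.cons φ real14 (Pts.RealsL.cons φ real11 (Pts.RealsL.cons φ real8 (Pts.RealsL.cons φ real10 (Pts.RealsL.cons φ real7 (Pts.RealsL.cons φ real9 (Pts.RealsL.cons φ real8 (Pts.RealsL.cons φ real9 (Pts.RealsL.cons φ real7 (Pts.RealsL.cons φ real1 (Pts.RealsL.cons φ real2 (Pts.RealsL.cons φ real3 (Pts.RealsL.cons φ real2 (Pts.RealsL.cons φ real1 (Pts.RealsL.cons φ real0 (Pts.RealsL.cons φ real3 (Pts.RealsL.cons φ real2 (Pts.RealsL.cons φ real6 (Pts.RealsL.cons φ real5 (Pts.RealsL.cons φ real3 (Pts.RealsL.cons φ real4 (Pts.RealsL.nil φ)))))))))))))))))))))))) (by decide +kernel)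

theorem real42 : Pts.Reals φ q7 :=
  Pts.Reals.step φ (Pts.RealsL.cons φ real27 (Pts.RealsL.cons φ real17 (Pts.RealsL.cons φ real13 (Pts.RealsL.cons φ real13 (Pts.RealsL.cons φ real9 (Pts.RealsL.cons φ real9 (Pts.RealsL.cons φ real8 (Pts.RealsL.cons φ real8 (Pts.RealsL.cons φ real9 (Pts.RealsL.cons φ real8 (Pts.RealsL.cons φ real10 (Pts.RealsL.cons φ real1 (Pts.RealsL.cons φ real2 (Pts.RealsL.cons φ real3 (Pts.RealsL.cons φ real2 (Pts.RealsL.cons φ real1 (Pts.RealsL.cons φ real0 (Pts.RealsL.cons φ real3 (Pts.RealsL.cons φ real2 (Pts.RealsL.cons φ real1 (Pts.RealsL.cons φ real5 (Pts.RealsL.cons φ real3 (Pts.RealsL.cons φ real2 (Pts.RealsL.cons φ real6 (Pts.RealsL.cons φ real3 (Pts.RealsL.nil φ)))))))))))))))))))))))))) (by decide +kernel)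

theorem real43 : Pts.Reals φ q8 :=
  Pts.Reals.step φ (Pts.RealsL.cons φ real34 (Pts.RealsL.cons φ real32 (Pts.RealsL.cons φ real27 (Pts.RealsL.cons φ real28 (Pts.RealsL.cons φ real11 (Pts.RealsL.cons φ real14 (Pts.RealsL.cons φ real7 (Pts.RealsL.cons φ real7 (Pts.RealsL.cons φ real9 (Pts.RealsL.cons φ real8 (Pts.RealsL.cons φ real8 (Pts.RealsL.cons φ real10 (Pts.RealsL.cons φ real1 (Pts.RealsL.cons φ real2 (Pts.RealsL.cons φ real3 (Pts.RealsL.cons φ real2 (Pts.RealsL.cons φ real1 (Pts.RealsL.cons φ real0 (Pts.RealsL.cons φ real3 (Pts.RealsL.cons φ real4 (Pts.RealsL.cons φ real5 (Pts.RealsL.cons φ real3 (Pts.RealsL.cons φ real2 (Pts.RealsL.cons φ real3 (Pts.RealsL.cons φ real2 (Pts.RealsL.cons φ real6 (Pts.RealsL.nil φ))))))))))))))))))))))))))) (by decide +kernel)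

theorem real44 : Pts.Reals φ q9 :=
  Pts.Reals.step φ (Pts.RealsL.cons φ real34 (Pts.RealsL.cons φ real27 (Pts.RealsL.cons φ real17 (Pts.RealsL.cons φ real13 (Pts.RealsL.cons φ real13 (Pts.RealsL.cons φ real13 (Pts.RealsL.cons φ real7 (Pts.RealsL.cons φ real7 (Pts.RealsL.cons φ real9 (Pts.RealsL.cons φ real8 (Pts.RealsL.cons φ real9 (Pts.RealsL.cons φ real7 (Pts.RealsL.cons φ real7 (Pts.RealsL.cons φ real1 (Pts.RealsL.cons φ real6 (Pts.RealsL.cons φ real3 (Pts.RealsL.cons φ real2 (Pts.RealsL.cons φ real1 (Pts.RealsL.cons φ real3 (Pts.RealsL.cons φ real2 (Pts.RealsL.cons φ real3 (Pts.RealsL.cons φ real2 (Pts.RealsL.cons φ real5 (Pts.RealsL.cons φ real3 (Pts.RealsL.cons φ real2 (Pts.RealsL.cons φ real4 (Pts.RealsL.nil φ))))))))))))))))))))))))))) (by decide +kernel)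

theorem real45 : Pts.Reals φ q10 :=
  Pts.Reals.step φ (Pts.RealsL.cons φ real32 (Pts.RealsL.cons φ real28 (Pts.RealsL.cons φ real11 (Pts.RealsL.cons φ real13 (Pts.RealsL.cons φ real9 (Pts.RealsL.cons φ real7 (Pts.RealsL.cons φ real7 (Pts.RealsL.cons φ real9 (Pts.RealsL.cons φ real9 (Pts.RealsL.cons φ real8 (Pts.RealsL.cons φ real1 (Pts.RealsL.cons φ real2 (Pts.RealsL.cons φ real3 (Pts.RealsL.cons φ real2 (Pts.RealsL.cons φ real1 (Pts.RealsL.cons φ real5 (Pts.RealsL.cons φ real3 (Pts.RealsL.cons φ real6 (Pts.RealsL.cons φ real5 (Pts.RealsL.cons φ real3 (Pts.RealsL.cons φ real2 (Pts.RealsL.cons φ real3 (Pts.RealsL.cons φ real2 (Pts.RealsL.nil φ)))))))))))))))))))))))) (by decide +kernel)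

theorem real46 : Pts.Reals φ q11 :=
  Pts.Reals.step φ (Pts.RealsL.cons φ real32 (Pts.RealsL.cons φ real28 (Pts.RealsL.cons φ real17 (Pts.RealsL.cons φ real13 (Pts.RealsL.cons φ real15 (Pts.RealsL.cons φ real13 (Pts.RealsL.cons φ real7 (Pts.RealsL.cons φ real9 (Pts.RealsL.cons φ real9 (Pts.RealsL.cons φ real8 (Pts.RealsL.cons φ real9 (Pts.RealsL.cons φ real9 (Pts.RealsL.cons φ real8 (Pts.RealsL.cons φ real10 (Pts.RealsL.cons φ real1 (Pts.RealsL.cons φ real2 (Pts.RealsL.cons φ real3 (Pts.RealsL.cons φ real2 (Pts.RealsL.cons φ real1 (Pts.RealsL.cons φ real3 (Pts.RealsL.cons φ real2 (Pts.RealsL.cons φ real6 (Pts.RealsL.cons φ real3 (Pts.RealsL.cons φ real2 (Pts.RealsL.cons φ real4 (Pts.RealsL.cons φ real3 (Pts.RealsL.cons φ real2 (Pts.RealsL.cons φ real1 (Pts.RealsL.nil φ))))))))))))))))))))))))))))) (by decide +kernel)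

theorem real47 : Pts.Reals φ q12 :=
  Pts.Reals.step φ (Pts.RealsL.cons φ real27 (Pts.RealsL.cons φ real28 (Pts.RealsL.cons φ real17 (Pts.RealsL.cons φ real11 (Pts.RealsL.cons φ real14 (Pts.RealsL.cons φ real11 (Pts.RealsL.cons φ real9 (Pts.RealsL.cons φ real9 (Pts.RealsL.cons φ real7 (Pts.RealsL.cons φ real10 (Pts.RealsL.cons φ real7 (Pts.RealsL.cons φ real1 (Pts.RealsL.cons φ real6 (Pts.RealsL.cons φ real3 (Pts.RealsL.cons φ real2 (Pts.RealsL.cons φ real1 (Pts.RealsL.cons φ real3 (Pts.RealsL.cons φ real2 (Pts.RealsL.cons φ real4 (Pts.RealsL.cons φ real3 (Pts.RealsL.cons φ real2 (Pts.RealsL.cons φ real5 (Pts.RealsL.nil φ))))))))))))))))))))))) (by decide +kernel)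

theorem real48 : Pts.Reals φ q13 :=
  Pts.Reals.step φ (Pts.RealsL.cons φ real34 (Pts.RealsL.cons φ real28 (Pts.RealsL.cons φ real17 (Pts.RealsL.cons φ real14 (Pts.RealsL.cons φ real14 (Pts.RealsL.cons φ real7 (Pts.RealsL.cons φ real9 (Pts.RealsL.cons φ real7 (Pts.RealsL.cons φ real9 (Pts.RealsL.cons φ real8 (Pts.RealsL.cons φ real10 (Pts.RealsL.cons φ real8 (Pts.RealsL.cons φ real1 (Pts.RealsL.cons φ real6 (Pts.RealsL.cons φ real3 (Pts.RealsL.cons φ real2 (Pts.RealsL.cons φ real1 (Pts.RealsL.cons φ real0 (Pts.RealsL.cons φ real5 (Pts.RealsL.cons φ real3 (Pts.RealsL.cons φ real2 (Pts.RealsL.nil φ)))))))))))))))))))))) (by decide +kernel)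

theorem real49 : Pts.Reals φ q14 :=
  Pts.Reals.step φ (Pts.RealsL.cons φ real32 (Pts.RealsL.cons φ real27 (Pts.RealsL.cons φ real17 (Pts.RealsL.cons φ real14 (Pts.RealsL.cons φ real11 (Pts.RealsL.cons φ real13 (Pts.RealsL.cons φ real9 (Pts.RealsL.cons φ real7 (Pts.RealsL.cons φ real9 (Pts.RealsL.cons φ real7 (Pts.RealsL.cons φ real7 (Pts.RealsL.cons φ real7 (Pts.RealsL.cons φ real10 (Pts.RealsL.cons φ real6 (Pts.RealsL.cons φ real3 (Pts.RealsL.cons φ real2 (Pts.RealsL.cons φ real1 (Pts.RealsL.cons φ real3 (Pts.RealsL.cons φ real2 (Pts.RealsL.cons φ real1 (Pts.RealsL.cons φ real3 (Pts.RealsL.cons φ real2 (Pts.RealsL.cons φ real1 (Pts.RealsL.cons φ real6 (Pts.RealsL.cons φ real3 (Pts.RealsL.cons φ real4 (Pts.RealsL.nil φ))))))))))))))))))))))))))) (by decide +kernel)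

theorem real50 : Pts.Reals φ q15 :=
  Pts.Reals.step φ (Pts.RealsL.cons φ real34 (Pts.RealsL.cons φ real27 (Pts.RealsL.cons φ real28 (Pts.RealsL.cons φ real17 (Pts.RealsL.cons φ real14 (Pts.RealsL.cons φ real16 (Pts.RealsL.cons φ real8 (Pts.RealsL.cons φ real9 (Pts.RealsL.cons φ real7 (Pts.RealsL.cons φ real7 (Pts.RealsL.cons φ real9 (Pts.RealsL.cons φ real9 (Pts.RealsL.cons φ real7 (Pts.RealsL.cons φ real7 (Pts.RealsL.cons φ real1 (Pts.RealsL.cons φ real2 (Pts.RealsL.cons φ real3 (Pts.RealsL.cons φ real2 (Pts.RealsL.cons φ real1 (Pts.RealsL.cons φ real3 (Pts.RealsL.cons φ real4 (Pts.RealsL.cons φ real5 (Pts.RealsL.cons φ real3 (Pts.RealsL.cons φ real2 (Pts.RealsL.cons φ real4 (Pts.RealsL.cons φ real3 (Pts.RealsL.nil φ))))))))))))))))))))))))))) (by decide +kernel)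

theorem real51 : Pts.Reals φ q16 :=
  Pts.Reals.step φ (Pts.RealsL.cons φ real32 (Pts.RealsL.cons φ real27 (Pts.RealsL.cons φ real13 (Pts.RealsL.cons φ real15 (Pts.RealsL.cons φ real13 (Pts.RealsL.cons φ real8 (Pts.RealsL.cons φ real10 (Pts.RealsL.cons φ real7 (Pts.RealsL.cons φ real9 (Pts.RealsL.cons φ real8 (Pts.RealsL.cons φ real9 (Pts.RealsL.cons φ real9 (Pts.RealsL.cons φ real8 (Pts.RealsL.cons φ real1 (Pts.RealsL.cons φ real2 (Pts.RealsL.cons φ real3 (Pts.RealsL.cons φ real2 (Pts.RealsL.cons φ real1 (Pts.RealsL.cons φ real0 (Pts.RealsL.cons φ real3 (Pts.RealsL.cons φ real2 (Pts.RealsL.cons φ real5 (Pts.RealsL.cons φ real3 (Pts.RealsL.cons φ real4 (Pts.RealsL.cons φ real6 (Pts.RealsL.cons φ real3 (Pts.RealsL.cons φ real4 (Pts.RealsL.nil φ)))))))))))))))))))))))))))) (by decide +kernel)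

theorem real52 : Pts.Reals φ q17 :=
  Pts.Reals.step φ (Pts.RealsL.cons φ real34 (Pts.RealsL.cons φ real27 (Pts.RealsL.cons φ real28 (Pts.RealsL.cons φ real14 (Pts.RealsL.cons φ real11 (Pts.RealsL.cons φ real13 (Pts.RealsL.cons φ real12 (Pts.RealsL.cons φ real7 (Pts.RealsL.cons φ real9 (Pts.RealsL.cons φ real8 (Pts.RealsL.cons φ real9 (Pts.RealsL.cons φ real9 (Pts.RealsL.cons φ real7 (Pts.RealsL.cons φ real7 (Pts.RealsL.nil φ))))))))))))))) (by decide +kernel)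

theorem real53 : Pts.Reals φ q18 :=
  Pts.Reals.step φ (Pts.RealsL.cons φ real28 (Pts.RealsL.cons φ real11 (Pts.RealsL.cons φ real14 (Pts.RealsL.cons φ real9 (Pts.RealsL.cons φ real7 (Pts.RealsL.cons φ real9 (Pts.RealsL.cons φ real9 (Pts.RealsL.cons φ real7 (Pts.RealsL.cons φ real10 (Pts.RealsL.cons φ real7 (Pts.RealsL.cons φ real6 (Pts.RealsL.cons φ real3 (Pts.RealsL.cons φ real2 (Pts.RealsL.cons φ real3 (Pts.RealsL.cons φ real4 (Pts.RealsL.cons φ real3 (Pts.RealsL.nil φ))))))))))))))))) (by decide +kernel)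

theorem real54 : Pts.Reals φ q19 :=
  Pts.Reals.step φ (Pts.RealsL.cons φ real17 (Pts.RealsL.cons φ real14 (Pts.RealsL.cons φ real11 (Pts.RealsL.cons φ real13 (Pts.RealsL.cons φ real9 (Pts.RealsL.cons φ real8 (Pts.RealsL.cons φ real8 (Pts.RealsL.cons φ real10 (Pts.RealsL.cons φ real7 (Pts.RealsL.cons φ real7 (Pts.RealsL.cons φ real10 (Pts.RealsL.cons φ real1 (Pts.RealsL.cons φ real2 (Pts.RealsL.cons φ real3 (Pts.RealsL.cons φ real2 (Pts.RealsL.cons φ real1 (Pts.RealsL.cons φ real3 (Pts.RealsL.cons φ real2 (Pts.RealsL.cons φ real6 (Pts.RealsL.cons φ real3 (Pts.RealsL.cons φ real2 (Pts.RealsL.cons φ real1 (Pts.RealsL.nil φ))))))))))))))))))))))) (by decide +kernel)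

theorem real55 : Pts.Reals φ q20 :=
  Pts.Reals.step φ (Pts.RealsL.cons φ real34 (Pts.RealsL.cons φ real28 (Pts.RealsL.cons φ real13 (Pts.RealsL.cons φ real13 (Pts.RealsL.cons φ real15 (Pts.RealsL.cons φ real7 (Pts.RealsL.cons φ real10 (Pts.RealsL.cons φ real8 (Pts.RealsL.cons φ real10 (Pts.RealsL.cons φ real8 (Pts.RealsL.cons φ real10 (Pts.RealsL.cons φ real1 (Pts.RealsL.cons φ real6 (Pts.RealsL.cons φ real3 (Pts.RealsL.cons φ real2 (Pts.RealsL.cons φ real1 (Pts.RealsL.cons φ real3 (Pts.RealsL.cons φ real2 (Pts.RealsL.cons φ real3 (Pts.RealsL.cons φ real6 (Pts.RealsL.cons φ real3 (Pts.RealsL.cons φ real2 (Pts.RealsL.cons φ real1 (Pts.RealsL.nil φ)))))))))))))))))))))))) (by decide +kernel)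

theorem real56 : Pts.Reals φ q21 :=
  Pts.Reals.step φ (Pts.RealsL.cons φ real34 (Pts.RealsL.cons φ real32 (Pts.RealsL.cons φ real27 (Pts.RealsL.cons φ real28 (Pts.RealsL.cons φ real14 (Pts.RealsL.cons φ real11 (Pts.RealsL.cons φ real13 (Pts.RealsL.cons φ real7 (Pts.RealsL.cons φ real10 (Pts.RealsL.cons φ real8 (Pts.RealsL.cons φ real9 (Pts.RealsL.cons φ real8 (Pts.RealsL.cons φ real10 (Pts.RealsL.cons φ real7 (Pts.RealsL.cons φ real1 (Pts.RealsL.cons φ real2 (Pts.RealsL.cons φ real3 (Pts.RealsL.cons φ real2 (Pts.RealsL.cons φ real1 (Pts.RealsL.cons φ real5 (Pts.RealsL.nil φ))))))))))))))))))))) (by decide +kernel)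

theorem real57 : Pts.Reals φ q22 :=
  Pts.Reals.step φ (Pts.RealsL.cons φ real34 (Pts.RealsL.cons φ real32 (Pts.RealsL.cons φ real27 (Pts.RealsL.cons φ real17 (Pts.RealsL.cons φ real11 (Pts.RealsL.cons φ real14 (Pts.RealsL.cons φ real11 (Pts.RealsL.cons φ real13 (Pts.RealsL.cons φ real8 (Pts.RealsL.cons φ real10 (Pts.RealsL.cons φ real8 (Pts.RealsL.cons φ real9 (Pts.RealsL.cons φ real7 (Pts.RealsL.cons φ real7 (Pts.RealsL.cons φ real10 (Pts.RealsL.cons φ real1 (Pts.RealsL.cons φ real2 (Pts.RealsL.cons φ real3 (Pts.RealsL.cons φ real2 (Pts.RealsL.cons φ real1 (Pts.RealsL.cons φ real5 (Pts.RealsL.cons φ real3 (Pts.RealsL.cons φ real2 (Pts.RealsL.cons φ real3 (Pts.RealsL.cons φ real2 (Pts.RealsL.cons φ real4 (Pts.RealsL.cons φ real3 (Pts.RealsL.nil φ)))))))))))))))))))))))))))) (by decide +kernel)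

theorem real58 : Pts.Reals φ q23 :=
  Pts.Reals.step φ (Pts.RealsL.cons φ real34 (Pts.RealsL.cons φ real32 (Pts.RealsL.cons φ real27 (Pts.RealsL.cons φ real28 (Pts.RealsL.cons φ real17 (Pts.RealsL.cons φ real16 (Pts.RealsL.cons φ real13 (Pts.RealsL.cons φ real15 (Pts.RealsL.cons φ real10 (Pts.RealsL.cons φ real7 (Pts.RealsL.cons φ real9 (Pts.RealsL.cons φ real8 (Pts.RealsL.cons φ real9 (Pts.RealsL.cons φ real7 (Pts.RealsL.nil φ))))))))))))))) (by decide +kernel)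

theorem real59 : Pts.Reals φ q24 :=
  Pts.Reals.step φ (Pts.RealsL.cons φ real34 (Pts.RealsL.cons φ real27 (Pts.RealsL.cons φ real28 (Pts.RealsL.cons φ real17 (Pts.RealsL.cons φ real14 (Pts.RealsL.cons φ real16 (Pts.RealsL.cons φ real10 (Pts.RealsL.cons φ real8 (Pts.RealsL.cons φ real9 (Pts.RealsL.cons φ real8 (Pts.RealsL.cons φ real8 (Pts.RealsL.cons φ real8 (Pts.RealsL.cons φ real8 (Pts.RealsL.nil φ)))))))))))))) (by decide +kernel)

theorem real60 : Pts.Reals φ q25 :=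
  Pts.Reals.step φ (Pts.RealsL.cons φ real27 (Pts.RealsL.cons φ real13 (Pts.RealsL.cons φ real12 (Pts.RealsL.cons φ real14 (Pts.RealsL.cons φ real7 (Pts.RealsL.cons φ real9 (Pts.RealsL.cons φ real7 (Pts.RealsL.cons φ real9 (Pts.RealsL.cons φ real9 (Pts.RealsL.cons φ real8 (Pts.RealsL.cons φ real8 (Pts.RealsL.cons φ real9 (Pts.RealsL.cons φ real6 (Pts.RealsL.cons φ real3 (Pts.RealsL.cons φ real2 (Pts.RealsL.cons φ real1 (Pts.RealsL.cons φ real3 (Pts.RealsL.cons φ real2 (Pts.RealsL.cons φ real3 (Pts.RealsL.cons φ real2 (Pts.RealsL.cons φ real3 (Pts.RealsL.cons φ real6 (Pts.RealsL.nil φ))))))))))))))))))))))) (by decide +kernel)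

theorem real61 : Pts.Reals φ q26 :=
  Pts.Reals.step φ (Pts.RealsL.cons φ real34 (Pts.RealsL.cons φ real32 (Pts.RealsL.cons φ real27 (Pts.RealsL.cons φ real28 (Pts.RealsL.cons φ real14 (Pts.RealsL.cons φ real14 (Pts.RealsL.cons φ real15 (Pts.RealsL.cons φ real8 (Pts.RealsL.cons φ real10 (Pts.RealsL.cons φ real7 (Pts.RealsL.cons φ real10 (Pts.RealsL.cons φ real7 (Pts.RealsL.cons φ real1 (Pts.RealsL.cons φ real2 (Pts.RealsL.cons φ real3 (Pts.RealsL.cons φ real2 (Pts.RealsL.cons φ real1 (Pts.RealsL.cons φ real0 (Pts.RealsL.cons φ real3 (Pts.RealsL.cons φ real2 (Pts.RealsL.cons φ real1 (Pts.RealsL.cons φ real5 (Pts.RealsL.cons φ real3 (Pts.RealsL.cons φ real2 (Pts.RealsL.cons φ real6 (Pts.RealsL.nil φ)))))))))))))))))))))))))) (by decide +kernel)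

theorem real62 : Pts.Reals φ q27 :=
  Pts.Reals.step φ (Pts.RealsL.cons φ real34 (Pts.RealsL.cons φ real27 (Pts.RealsL.cons φ real28 (Pts.RealsL.cons φ real13 (Pts.RealsL.cons φ real13 (Pts.RealsL.cons φ real12 (Pts.RealsL.cons φ real7 (Pts.RealsL.cons φ real7 (Pts.RealsL.cons φ real9 (Pts.RealsL.cons φ real7 (Pts.RealsL.cons φ real7 (Pts.RealsL.cons φ real1 (Pts.RealsL.cons φ real2 (Pts.RealsL.cons φ real3 (Pts.RealsL.cons φ real2 (Pts.RealsL.cons φ real1 (Pts.RealsL.cons φ real0 (Pts.RealsL.cons φ real3 (Pts.RealsL.cons φ real2 (Pts.RealsL.cons φ real1 (Pts.RealsL.cons φ real5 (Pts.RealsL.cons φ real3 (Pts.RealsL.cons φ real2 (Pts.RealsL.cons φ real1 (Pts.RealsL.cons φ real3 (Pts.RealsL.cons φ real6 (Pts.RealsL.nil φ))))))))))))))))))))))))))) (by decide +kernel)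

theorem real63 : Pts.Reals φ q28 :=
  Pts.Reals.step φ (Pts.RealsL.cons φ real28 (Pts.RealsL.cons φ real17 (Pts.RealsL.cons φ real13 (Pts.RealsL.cons φ real12 (Pts.RealsL.cons φ real14 (Pts.RealsL.cons φ real8 (Pts.RealsL.cons φ real10 (Pts.RealsL.cons φ real7 (Pts.RealsL.cons φ real7 (Pts.RealsL.cons φ real10 (Pts.RealsL.cons φ real8 (Pts.RealsL.cons φ real1 (Pts.RealsL.cons φ real2 (Pts.RealsL.cons φ real3 (Pts.RealsL.cons φ real2 (Pts.RealsL.cons φ real1 (Pts.RealsL.cons φ real3 (Pts.RealsL.cons φ real4 (Pts.RealsL.cons φ real5 (Pts.RealsL.cons φ real3 (Pts.RealsL.cons φ real2 (Pts.RealsL.cons φ real3 (Pts.RealsL.cons φ real2 (Pts.RealsL.cons φ real4 (Pts.RealsL.cons φ real6 (Pts.RealsL.nil φ)))))))))))))))))))))))))) (by decide +kernel)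

theorem real64 : Pts.Reals φ q29 :=
  Pts.Reals.step φ (Pts.RealsL.cons φ real14 (Pts.RealsL.cons φ real14 (Pts.RealsL.cons φ real11 (Pts.RealsL.cons φ real9 (Pts.RealsL.cons φ real8 (Pts.RealsL.cons φ real9 (Pts.RealsL.cons φ real7 (Pts.RealsL.cons φ real10 (Pts.RealsL.cons φ real8 (Pts.RealsL.cons φ real1 (Pts.RealsL.cons φ real6 (Pts.RealsL.cons φ real3 (Pts.RealsL.cons φ real2 (Pts.RealsL.cons φ real1 (Pts.RealsL.cons φ real3 (Pts.RealsL.cons φ real2 (Pts.RealsL.cons φ real3 (Pts.RealsL.cons φ real6 (Pts.RealsL.cons φ real3 (Pts.RealsL.cons φ real5 (Pts.RealsL.nil φ))))))))))))))))))))) (by decide +kernel)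

theorem real65 : Pts.Reals φ q30 :=
  Pts.Reals.step φ (Pts.RealsL.cons φ real28 (Pts.RealsL.cons φ real14 (Pts.RealsL.cons φ real11 (Pts.RealsL.cons φ real13 (Pts.RealsL.cons φ real12 (Pts.RealsL.cons φ real8 (Pts.RealsL.cons φ real10 (Pts.RealsL.cons φ real7 (Pts.RealsL.cons φ real9 (Pts.RealsL.cons φ real8 (Pts.RealsL.cons φ real9 (Pts.RealsL.cons φ real9 (Pts.RealsL.cons φ real8 (Pts.RealsL.cons φ real1 (Pts.RealsL.cons φ real2 (Pts.RealsL.cons φ real3 (Pts.RealsL.cons φ real2 (Pts.RealsL.cons φ real1 (Pts.RealsL.cons φ real3 (Pts.RealsL.cons φ real4 (Pts.RealsL.cons φ real5 (Pts.RealsL.cons φ real3 (Pts.RealsL.cons φ real2 (Pts.RealsL.cons φ real3 (Pts.RealsL.cons φ real4 (Pts.RealsL.cons φ real3 (Pts.RealsL.cons φ real6 (Pts.RealsL.nil φ)))))))))))))))))))))))))))) (by decide +kernel)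

theorem real66 : Pts.Reals φ q31 :=
  Pts.Reals.step φ (Pts.RealsL.cons φ real28 (Pts.RealsL.cons φ real11 (Pts.RealsL.cons φ real14 (Pts.RealsL.cons φ real11 (Pts.RealsL.cons φ real7 (Pts.RealsL.cons φ real9 (Pts.RealsL.cons φ real8 (Pts.RealsL.cons φ real9 (Pts.RealsL.cons φ real7 (Pts.RealsL.cons φ real7 (Pts.RealsL.cons φ real10 (Pts.RealsL.cons φ real7 (Pts.RealsL.cons φ real6 (Pts.RealsL.cons φ real3 (Pts.RealsL.cons φ real2 (Pts.RealsL.cons φ real1 (Pts.RealsL.cons φ real0 (Pts.RealsL.cons φ real3 (Pts.RealsL.cons φ real2 (Pts.RealsL.cons φ real1 (Pts.RealsL.cons φ real3 (Pts.RealsL.cons φ real4 (Pts.RealsL.cons φ real6 (Pts.RealsL.cons φ real3 (Pts.RealsL.nil φ))))))))))))))))))))))))) (by decide +kernel)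

theorem real67 : Pts.Reals φ q32 :=
  Pts.Reals.step φ (Pts.RealsL.cons φ real34 (Pts.RealsL.cons φ real27 (Pts.RealsL.cons φ real28 (Pts.RealsL.cons φ real16 (Pts.RealsL.cons φ real14 (Pts.RealsL.cons φ real11 (Pts.RealsL.cons φ real9 (Pts.RealsL.cons φ real7 (Pts.RealsL.cons φ real9 (Pts.RealsL.cons φ real9 (Pts.RealsL.cons φ real7 (Pts.RealsL.cons φ real10 (Pts.RealsL.cons φ real7 (Pts.RealsL.cons φ real1 (Pts.RealsL.cons φ real6 (Pts.RealsL.cons φ real3 (Pts.RealsL.cons φ real2 (Pts.RealsL.cons φ real1 (Pts.RealsL.cons φ real0 (Pts.RealsL.cons φ real3 (Pts.RealsL.cons φ real4 (Pts.RealsL.cons φ real5 (Pts.RealsL.cons φ real3 (Pts.RealsL.nil φ)))))))))))))))))))))))) (by decide +kernel)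

theorem real68 : Pts.Reals φ q33 :=
  Pts.Reals.step φ (Pts.RealsL.cons φ real34 (Pts.RealsL.cons φ real27 (Pts.RealsL.cons φ real13 (Pts.RealsL.cons φ real12 (Pts.RealsL.cons φ real14 (Pts.RealsL.cons φ real14 (Pts.RealsL.cons φ real8 (Pts.RealsL.cons φ real9 (Pts.RealsL.cons φ real8 (Pts.RealsL.cons φ real10 (Pts.RealsL.cons φ real8 (Pts.RealsL.cons φ real9 (Pts.RealsL.cons φ real9 (Pts.RealsL.cons φ real6 (Pts.RealsL.cons φ real3 (Pts.RealsL.cons φ real2 (Pts.RealsL.cons φ real1 (Pts.RealsL.cons φ real3 (Pts.RealsL.cons φ real2 (Pts.RealsL.cons φ real1 (Pts.RealsL.cons φ real3 (Pts.RealsL.cons φ real2 (Pts.RealsL.cons φ real4 (Pts.RealsL.cons φ real6 (Pts.RealsL.nil φ))))))))))))))))))))))))) (by decide +kernel)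

end Cfsg.Agent.Lib.PcMult.He
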