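import Cfsg.Agent.Lib.PcMult.Pts.Check
import Cfsg.Agent.Lib.PcMult.He.Steps

/-!
Certificate for the prime 3.
-/

set_option autoImplicit false
set_option maxRecDepth 100000

namespace Cfsg.Agent.Lib.PcMult.He.P3

open Cfsg.Agent.InvChar.Coset Cfsg.Agent.Lib.PcMult

/-- The certificate. -/
def C : Cert where
  R :=
    { p := 3
      n := 3
      pw := [[0, 0, 0], [0, 0, 0], [0, 0, 0]]
      cj := [
    [[], [0, 1, 0], [0, 1, 1]],
    [[], [], [0, 0, 1]],
    [[], [], []]] }
  ovl := [
    ([2, 2], [2, 0], [])]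
  fus := [
    ([([1], [1]), ([2], [0, 1, 2, 2])], [([1, 0], [0, 1]), ([1, 1, 1], [])]),
    ([([1], [1, 2]), ([2], [2, 2])], [([1, 1, 1], []), ([1, 0], [0, 1])])]
  shift := [[], [2], []]
  combs := [
    [1, 2, 1, 2],
    [0, 2, 0, 0, 1],
    [],
    [1],
    [0, 0, 0, 0, 1],
    [0, 0, 0, 1]]

/-- The data. -/
def D : Pts.Data where
  C := C
  gc := [q4, q5, q6]
  hc := [q7, q8]
  base := [0, 1, 2, 3, 5, 9, 18]
  orbs := [(116, [116]), (1, [1]), (0, [0])]

theorem gc : Pts.RealsL φ D.gc := (Pts.RealsL.cons φ real39 (Pts.RealsL.cons φ real40 (Pts.RealsL.cons φ real41 (Pts.RealsL.nil φ))))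

theorem hc : Pts.RealsL φ D.hc := (Pts.RealsL.cons φ real42 (Pts.RealsL.cons φ real43 (Pts.RealsL.nil φ)))

theorem cert : C.check (vecOps 3) = true := by decide +kernel

theorem shape : D.checkShape = true := by decide +kernel

theorem rules : D.checkRules = true := by decide +kernel

theorem fus : D.checkFus = true := by decide +kernel

theorem news : D.checkNew 2058 = true := by decide +kernel

end Cfsg.Agent.Lib.PcMult.He.P3
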