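import Cfsg.Agent.Lib.PcMult.Pts.Check
import Cfsg.Agent.Lib.PcMult.He.Steps

/-!
Certificate for the prime 7.
-/

set_option autoImplicit false
set_option maxRecDepth 100000

namespace Cfsg.Agent.Lib.PcMult.He.P7

open Cfsg.Agent.InvChar.Coset Cfsg.Agent.Lib.PcMult

/-- The certificate. -/
def C : Cert where
  R :=
    { p := 7
      n := 3
      pw := [[0, 0, 0], [0, 0, 0], [0, 0, 0]]
      cj := [
    [[], [0, 1, 1], [0, 0, 1]],
    [[], [], [0, 0, 1]],
    [[], [], []]] }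
  ovl := [
    ([1, 1, 1, 1, 1, 1], [1, 0], [])]
  fus := [
    ([([0], [0, 1, 1, 2, 2, 2, 2, 2]), ([1], [0, 0, 1, 1, 1, 1, 1]), ([2], [2])], [([1, 1, 1, 1, 1, 1, 1], [])]),
    ([([0], [0, 1, 1]), ([1], [0, 0, 1, 1, 1, 1, 1, 2]), ([2], [2])], [([2, 0], [0, 2]), ([2, 1], [1, 2])]),
    ([([1], [2, 2, 2]), ([2], [1, 1, 2, 2])], [([0, 0, 0, 0, 0, 0, 0], [])])]
  shift := [[], [], [1]]
  combs := [
    [5, 4, 0, 0, 2],
    [],
    [0, 0, 6, 4],
    [3, 0, 0, 0, 6],
    [0, 0, 4],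
    [1]]

/-- The data. -/
def D : Pts.Data where
  C := C
  gc := [q9, q10, q11]
  hc := [q12, q13, q14]
  base := [0, 1, 2, 3, 5, 9, 18]
  orbs := [(0, [0, 41, 43, 68, 134, 222, 226, 262, 317, 329, 338, 404, 456, 579, 597, 705, 730, 786, 873, 899, 905, 952, 973, 1069, 1094, 1146, 1168, 1300, 1385, 1412, 1459, 1461, 1499, 1503, 1519, 1557, 1593, 1604, 1648, 1674, 1686, 1733, 1883, 1919, 1958, 1969, 1997, 2018, 2043]), (0, [0, 41, 404, 1094, 1146, 1557, 1648]), (0, [0])]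

theorem gc : Pts.RealsL φ D.gc := (Pts.RealsL.cons φ real44 (Pts.RealsL.cons φ real45 (Pts.RealsL.cons φ real46 (Pts.RealsL.nil φ))))

theorem hc : Pts.RealsL φ D.hc := (Pts.RealsL.cons φ real47 (Pts.RealsL.cons φ real48 (Pts.RealsL.cons φ real49 (Pts.RealsL.nil φ))))

theorem cert : C.check (vecOps 7) = true := by decide +kernel

theorem shape : D.checkShape = true := by decide +kernel

theorem rules : D.checkRules = true := by decide +kernel

theorem fus : D.checkFus = true := by decide +kernel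

theorem news : D.checkNew 2058 = true := by decide +kernel

end Cfsg.Agent.Lib.PcMult.He.P7
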