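import Cfsg.Agent.Lib.PcMult.He.Data2
import Cfsg.Agent.Lib.PcMult.He.Data3
import Cfsg.Agent.Lib.PcMult.He.Data5
import Cfsg.Agent.Lib.PcMult.He.Data7

/-!
The Held group has trivial multiplier.
-/

set_option autoImplicit false

namespace Cfsg.Agent.Lib.PcMult.He

open Cfsg.Agent.InvChar.Coset Cfsg.Agent.Lib.PcMult

theorem card_He : Nat.card Cfsg.Spor.He = 4030387200 := He.simple_and_card.2

theorem trivial_multiplier : Cfsg.HasCyclicSchurMultiplier Cfsg.Spor.He 1 := by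
  haveI : Finite Cfsg.Spor.He := Nat.finite_of_card_ne_zero (by rw [card_He]; norm_num)
  refine trivial_of_exp fun p hp hdvd Γ _ _ σ hc hσ hex P => ?_
  rw [card_He] at hdvd
  have hpp := hp.out
  have hfac : ∀ q k m : ℕ, q.Prime → 4030387200 = q ^ k * m → ¬ q ∣ m →
      (Nat.card Cfsg.Spor.He).factorization q = k := by
    intro q k m hq e hm
    have hm0 : m ≠ 0 := by rintro rfl; simp at e
    rw [card_He, e, Nat.factorization_mul (pow_ne_zero _ hq.ne_zero) hm0, Finsupp.add_apply,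
      Nat.Prime.factorization_pow hq, Nat.factorization_eq_zero_of_not_dvd hm, Finsupp.single_eq_same, add_zero]
  have hn : He.table.n = 2058 := HeCent.n_eq
  have hple : p = 2 ∨ p = 3 ∨ p = 5 ∨ p = 7 := by
    have h1 : p ∣ 2 ^ 10 * 3 ^ 3 * 5 ^ 2 * 7 ^ 3 * 17 :=
      ((dvd_pow_self p two_ne_zero).trans hdvd).trans (by norm_num)
    rcases (Nat.Prime.dvd_mul hpp).1 h1 with h | h
    · rcases (Nat.Prime.dvd_mul hpp).1 h with h | h
      · rcases (Nat.Prime.dvd_mul hpp).1 h with h | h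
        · rcases (Nat.Prime.dvd_mul hpp).1 h with h | h
          · exact Or.inl ((Nat.prime_dvd_prime_iff_eq hpp Nat.prime_two).1 (hpp.dvd_of_dvd_pow h))
          · exact Or.inr (Or.inl ((Nat.prime_dvd_prime_iff_eq hpp Nat.prime_three).1 (hpp.dvd_of_dvd_pow h)))
        · exact Or.inr (Or.inr (Or.inl ((Nat.prime_dvd_prime_iff_eq hpp Nat.prime_five).1 (hpp.dvd_of_dvd_pow h))))
      · exact Or.inr (Or.inr (Or.inr ((Nat.prime_dvd_prime_iff_eq hpp (by norm_num)).1 (hpp.dvd_of_dvd_pow h))))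
    · exfalso
      rw [(Nat.prime_dvd_prime_iff_eq hpp (by norm_num : Nat.Prime 17)).1 h] at hdvd
      norm_num at hdvd
  rcases hple with rfl | rfl | rfl | rfl
  · exact Pts.Data.split_pts φ (D := P2.D) (p := 2) rfl (fun K _ h τ => ⟨_, bitOps_valid h τ⟩) P2.cert (fun x y h => sep h)
      P2.gc P2.hc P2.shape P2.rules P2.fus (hn.symm ▸ P2.news)
      (hfac 2 10 3935925 hpp (by norm_num) (by norm_num)) Γ σ hc hσ hex P
  · exact Pts.Data.split_pts φ (D := P3.D) (p := 3) rfl (fun K _ h τ => ⟨_, vecOps_valid h τ⟩) P3.cert (fun x y h => sep h)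
      P3.gc P3.hc P3.shape P3.rules P3.fus (hn.symm ▸ P3.news)
      (hfac 3 3 149273600 hpp (by norm_num) (by norm_num)) Γ σ hc hσ hex P
  · exact Pts.Data.split_pts φ (D := P5.D) (p := 5) rfl (fun K _ h τ => ⟨_, vecOps_valid h τ⟩) P5.cert (fun x y h => sep h)
      P5.gc P5.hc P5.shape P5.rules P5.fus (hn.symm ▸ P5.news)
      (hfac 5 2 161215488 hpp (by norm_num) (by norm_num)) Γ σ hc hσ hex P
  · exact Pts.Data.split_pts φ (D := P7.D) (p := 7) rfl (fun K _ h τ => ⟨_, vecOps_valid h τ⟩) P7.cert (fun x y h => sep h)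
      P7.gc P7.hc P7.shape P7.rules P7.fus (hn.symm ▸ P7.news)
      (hfac 7 3 11750400 hpp (by norm_num) (by norm_num)) Γ σ hc hσ hex P

end Cfsg.Agent.Lib.PcMult.He
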